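import Groth.Prelude.Def_EtTens2
import Groth.Agent.EtFound.Stalk
import Mathlib.CategoryTheory.Sites.Point.Skyscraper

/-! the stalk of the tensor product of abelian sheaves on the small etale site -/

universe u

open CategoryTheory CategoryTheory.Limits AlgebraicGeometry Opposite TensorProduct

namespace Groth.Agent.EtTensLib

set_option backward.isDefEq.respectTransparency.types false

variable {X : Scheme.{u}} {Ω : Type u} [Field Ω] [IsSepClosed Ω] (ξ : Spec (CommRingCat.of Ω) ⟶ X)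
  (P Q : X.Etaleᵒᵖ ⥤ AddCommGrpCat.{u + 1})

local notation "Φ" => Scheme.pointSmallEtale ξ

/-- the fibre functor on presheaves of abelian groups -/
noncomputable abbrev fib : (X.Etaleᵒᵖ ⥤ AddCommGrpCat.{u + 1}) ⥤ AddCommGrpCat.{u + 1} :=
  (Scheme.pointSmallEtale ξ).presheafFiber


/-- the germ of a pure tensor -/
noncomputable def germT (V : X.Etale) (v : (Φ).fiber.obj V) (m : P.obj (op V)) (n : Q.obj (op V)) :
    (fib ξ).obj (EtTens.tensorObj P Q) :=
  (Φ).toPresheafFiber V v (EtTens.tensorObj P Q) (m ⊗ₜ[ℤ] n)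

theorem germT_map {V W : X.Etale} (f : W ⟶ V) (w : (Φ).fiber.obj W) (m : P.obj (op V)) (n : Q.obj (op V)) :
    germT ξ P Q W w (P.map f.op m) (Q.map f.op n) = germT ξ P Q V ((Φ).fiber.map f w) m n :=
  (Φ).toPresheafFiber_w_apply f w (EtTens.tensorObj P Q) (m ⊗ₜ[ℤ] n)

theorem exists_rep (a : (fib ξ).obj P) (b : (fib ξ).obj Q) :
    ∃ (V : X.Etale) (v : (Φ).fiber.obj V) (m : P.obj (op V)) (n : Q.obj (op V)),
      (Φ).toPresheafFiber V v P m = a ∧ (Φ).toPresheafFiber V v Q n = b := by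
  obtain ⟨V, v, m, rfl⟩ := (Φ).toPresheafFiber_jointly_surjective a
  obtain ⟨W, w, n, rfl⟩ := (Φ).toPresheafFiber_jointly_surjective b
  obtain ⟨⟨T, t⟩, ⟨p, hp⟩, ⟨q, hq⟩, -⟩ :=
    IsCofilteredOrEmpty.cone_objs ((Φ).fiber.elementsMk V v) ((Φ).fiber.elementsMk W w)
  refine ⟨T, t, P.map p.op m, Q.map q.op n, ?_, ?_⟩
  · exact ((Φ).toPresheafFiber_w_apply p t P m).trans (congrArg (fun z => (Φ).toPresheafFiber V z P m) hp)
  · exact ((Φ).toPresheafFiber_w_apply q t Q n).trans (congrArg (fun z => (Φ).toPresheafFiber W z Q n) hq)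

theorem germT_congr {V V' : X.Etale} (v : (Φ).fiber.obj V) (v' : (Φ).fiber.obj V')
    (m : P.obj (op V)) (n : Q.obj (op V)) (m' : P.obj (op V')) (n' : Q.obj (op V'))
    (hm : (Φ).toPresheafFiber V v P m = (Φ).toPresheafFiber V' v' P m')
    (hn : (Φ).toPresheafFiber V v Q n = (Φ).toPresheafFiber V' v' Q n') :
    germT ξ P Q V v m n = germT ξ P Q V' v' m' n' := by
  obtain ⟨⟨T, t⟩, ⟨p₀, hp₀⟩, ⟨p₁, hp₁⟩, -⟩ :=
    IsCofilteredOrEmpty.cone_objs ((Φ).fiber.elementsMk V v) ((Φ).fiber.elementsMk V' v')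
  obtain ⟨p, hp⟩ : ∃ p : T ⟶ V, (Φ).fiber.map p t = v := ⟨p₀, hp₀⟩
  obtain ⟨p', hp'⟩ : ∃ p' : T ⟶ V', (Φ).fiber.map p' t = v' := ⟨p₁, hp₁⟩
  clear hp₀ hp₁ p₀ p₁
  subst hp hp'
  rw [← (Φ).toPresheafFiber_w_apply, ← (Φ).toPresheafFiber_w_apply, (Φ).toPresheafFiber_eq_iff'] at hm
  obtain ⟨T₁, q, t₁, rfl, hm⟩ := hm
  simp only [← (Φ).toPresheafFiber_w_apply] at hn
  rw [(Φ).toPresheafFiber_eq_iff'] at hn
  obtain ⟨T₂, r, t₂, rfl, hn⟩ := hn
  simp only [← germT_map]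
  rw [hm, hn]

/-- the bilinear product of germs -/
noncomputable def mulGerm (a : (fib ξ).obj P) (b : (fib ξ).obj Q) :
    (fib ξ).obj (EtTens.tensorObj P Q) :=
  germT ξ P Q _ (exists_rep ξ P Q a b).choose_spec.choose
    (exists_rep ξ P Q a b).choose_spec.choose_spec.choose
    (exists_rep ξ P Q a b).choose_spec.choose_spec.choose_spec.choose

theorem mulGerm_germ (V : X.Etale) (v : (Φ).fiber.obj V) (m : P.obj (op V)) (n : Q.obj (op V)) :
    mulGerm ξ P Q ((Φ).toPresheafFiber V v P m) ((Φ).toPresheafFiber V v Q n) = germT ξ P Q V v m n :=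
  germT_congr ξ P Q _ _ _ _ _ _
    (exists_rep ξ P Q _ _).choose_spec.choose_spec.choose_spec.choose_spec.1
    (exists_rep ξ P Q _ _).choose_spec.choose_spec.choose_spec.choose_spec.2

theorem mulGerm_add_left (a a' : (fib ξ).obj P) (b : (fib ξ).obj Q) :
    mulGerm ξ P Q (a + a') b = mulGerm ξ P Q a b + mulGerm ξ P Q a' b := by
  obtain ⟨V, v, m, m', rfl, rfl⟩ := (Φ).toPresheafFiber_jointly_surjective₂ a a'
  obtain ⟨W, w, n, rfl⟩ := (Φ).toPresheafFiber_jointly_surjective b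
  obtain ⟨⟨T, t⟩, ⟨p₀, hp₀⟩, ⟨q₀, hq₀⟩, -⟩ :=
    IsCofilteredOrEmpty.cone_objs ((Φ).fiber.elementsMk V v) ((Φ).fiber.elementsMk W w)
  obtain ⟨p, hp⟩ : ∃ p : T ⟶ V, (Φ).fiber.map p t = v := ⟨p₀, hp₀⟩
  obtain ⟨q, hq⟩ : ∃ q : T ⟶ W, (Φ).fiber.map q t = w := ⟨q₀, hq₀⟩
  clear hp₀ hq₀ p₀ q₀
  subst hp hq
  rw [← (Φ).toPresheafFiber_w_apply, ← (Φ).toPresheafFiber_w_apply, ← (Φ).toPresheafFiber_w_apply, ← map_add,
    mulGerm_germ, mulGerm_germ, mulGerm_germ, germT, germT, germT, TensorProduct.add_tmul]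
  exact map_add _ _ _

theorem mulGerm_add_right (a : (fib ξ).obj P) (b b' : (fib ξ).obj Q) :
    mulGerm ξ P Q a (b + b') = mulGerm ξ P Q a b + mulGerm ξ P Q a b' := by
  obtain ⟨W, w, n, n', rfl, rfl⟩ := (Φ).toPresheafFiber_jointly_surjective₂ b b'
  obtain ⟨V, v, m, rfl⟩ := (Φ).toPresheafFiber_jointly_surjective a
  obtain ⟨⟨T, t⟩, ⟨p₀, hp₀⟩, ⟨q₀, hq₀⟩, -⟩ :=
    IsCofilteredOrEmpty.cone_objs ((Φ).fiber.elementsMk V v) ((Φ).fiber.elementsMk W w)
  obtain ⟨p, hp⟩ : ∃ p : T ⟶ V, (Φ).fiber.map p t = v := ⟨p₀, hp₀⟩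
  obtain ⟨q, hq⟩ : ∃ q : T ⟶ W, (Φ).fiber.map q t = w := ⟨q₀, hq₀⟩
  clear hp₀ hq₀ p₀ q₀
  subst hp hq
  rw [← (Φ).toPresheafFiber_w_apply, ← (Φ).toPresheafFiber_w_apply, ← (Φ).toPresheafFiber_w_apply, ← map_add,
    mulGerm_germ, mulGerm_germ, mulGerm_germ, germT, germT, germT, TensorProduct.tmul_add]
  exact map_add _ _ _

/-- the tensor product of fibres maps to the fibre of the tensor product -/
noncomputable def preFiberTensor :
    ((fib ξ).obj P ⊗[ℤ] (fib ξ).obj Q) →+ (fib ξ).obj (EtTens.tensorObj P Q) :=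
  TensorProduct.liftAddHom
    (AddMonoidHom.mk' (fun a => AddMonoidHom.mk' (mulGerm ξ P Q a) (mulGerm_add_right ξ P Q a))
      (fun a a' => AddMonoidHom.ext (mulGerm_add_left ξ P Q a a')))
    (fun r a b => by
      let B := AddMonoidHom.mk' (fun a => AddMonoidHom.mk' (mulGerm ξ P Q a) (mulGerm_add_right ξ P Q a))
        (fun a a' => AddMonoidHom.ext (mulGerm_add_left ξ P Q a a'))
      show B (r • a) b = B a (r • b)
      rw [map_zsmul, map_zsmul]
      rfl)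

theorem preFiberTensor_tmul (a : (fib ξ).obj P) (b : (fib ξ).obj Q) :
    preFiberTensor ξ P Q (a ⊗ₜ[ℤ] b) = mulGerm ξ P Q a b := rfl

/-- germs of tensors -/
noncomputable def preFiberSplit :
    (fib ξ).obj (EtTens.tensorObj P Q) ⟶
      AddCommGrpCat.of ((fib ξ).obj P ⊗[ℤ] (fib ξ).obj Q) :=
  (Φ).presheafFiberDesc (fun V v => AddCommGrpCat.ofHom (TensorProduct.map
      ((Φ).toPresheafFiber V v P).hom.toIntLinearMap ((Φ).toPresheafFiber V v Q).hom.toIntLinearMap).toAddMonoidHom)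
    (fun {V W} f v => EtTens.hom_ext_tmul fun m n => by
      change ((Φ).toPresheafFiber _ v P (P.map f.op m)) ⊗ₜ[ℤ] ((Φ).toPresheafFiber _ v Q (Q.map f.op n)) =
        ((Φ).toPresheafFiber _ ((Φ).fiber.map f v) P m) ⊗ₜ[ℤ] ((Φ).toPresheafFiber _ ((Φ).fiber.map f v) Q n)
      rw [(Φ).toPresheafFiber_w_apply, (Φ).toPresheafFiber_w_apply])

theorem preFiberSplit_germT (V : X.Etale) (v : (Φ).fiber.obj V) (m : P.obj (op V)) (n : Q.obj (op V)) :
    preFiberSplit ξ P Q (germT ξ P Q V v m n) =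
      ((Φ).toPresheafFiber V v P m) ⊗ₜ[ℤ] ((Φ).toPresheafFiber V v Q n) :=
  (ConcreteCategory.comp_apply ((Φ).toPresheafFiber V v (EtTens.tensorObj P Q)) (preFiberSplit ξ P Q)
      (m ⊗ₜ[ℤ] n)).symm.trans (ConcreteCategory.congr_hom
    ((show (Φ).toPresheafFiber V v (EtTens.tensorObj P Q) ≫ preFiberSplit ξ P Q = AddCommGrpCat.ofHom (TensorProduct.map
        ((Φ).toPresheafFiber V v P).hom.toIntLinearMap ((Φ).toPresheafFiber V v Q).hom.toIntLinearMap).toAddMonoidHom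
      by unfold preFiberSplit; exact GrothendieckTopology.Point.toPresheafFiber_presheafFiberDesc _ _ _ V v)) (m ⊗ₜ[ℤ] n))

theorem preFiberTensor_bijective : Function.Bijective (preFiberTensor ξ P Q) := by
  refine ⟨Function.LeftInverse.injective (g := preFiberSplit ξ P Q) fun x => ?_,
    Function.RightInverse.surjective (g := preFiberSplit ξ P Q) fun x => ?_⟩
  · induction x using TensorProduct.induction_on with
    | zero => rw [map_zero, map_zero]
    | tmul a b =>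
      obtain ⟨V, v, m, n, rfl, rfl⟩ := exists_rep ξ P Q a b
      rw [preFiberTensor_tmul, mulGerm_germ]
      exact preFiberSplit_germT ξ P Q V v m n
    | add a b ha hb => rw [map_add, map_add, ha, hb]
  · obtain ⟨V, v, s, rfl⟩ := (Φ).toPresheafFiber_jointly_surjective x
    change (P.obj (op V) ⊗[ℤ] Q.obj (op V) : Type (u + 1)) at s
    induction s using TensorProduct.induction_on with
    | zero =>
      have h0 : (Φ).toPresheafFiber V v (EtTens.tensorObj P Q) (0 : (EtTens.tensorObj P Q).obj (op V)) = 0 := map_zero _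
      exact ((congrArg (fun z => preFiberTensor ξ P Q (preFiberSplit ξ P Q z)) h0).trans
        ((congrArg (preFiberTensor ξ P Q) (map_zero (preFiberSplit ξ P Q).hom)).trans (map_zero _))).trans h0.symm
    | tmul m n =>
      rw [show (Φ).toPresheafFiber V v (EtTens.tensorObj P Q) (m ⊗ₜ[ℤ] n) = germT ξ P Q V v m n from rfl,
        preFiberSplit_germT, preFiberTensor_tmul, mulGerm_germ]
    | add a b ha hb =>
      exact (congrArg (fun z => preFiberTensor ξ P Q (preFiberSplit ξ P Q z)) (map_add _ a b)).trans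
        (((congrArg _ (map_add _ _ _)).trans (map_add _ _ _)).trans
          ((congrArg₂ (· + ·) ha hb).trans (map_add _ a b).symm))

variable (F G : EtCoh.Ab X)

/-- `F_ξ ⊗ G_ξ ⟶ (F ⊗ G)_ξ` -/
noncomputable def stalkTensor :
    ((EtCoh.stalk ξ).obj F ⊗[ℤ] (EtCoh.stalk ξ).obj G) →+ (EtCoh.stalk ξ).obj ((EtTens.tensorBi.obj F).obj G) :=
  ((fib ξ).map (toSheafify X.smallEtaleTopology (EtTens.tensorObj F.obj G.obj))).hom.comp
    (preFiberTensor ξ F.obj G.obj)

theorem stalkTensor_germ (V : X.Etale) (v : (Φ).fiber.obj V) (m : F.obj.obj (op V)) (n : G.obj.obj (op V)) :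
    stalkTensor ξ F G (((Φ).toPresheafFiber V v F.obj m) ⊗ₜ[ℤ] ((Φ).toPresheafFiber V v G.obj n)) =
      (Φ).toPresheafFiber V v ((EtTens.tensorBi.obj F).obj G).obj
        ((toSheafify X.smallEtaleTopology (EtTens.tensorObj F.obj G.obj)).app (op V) (m ⊗ₜ[ℤ] n)) := by
  refine (congrArg _ ((preFiberTensor_tmul ξ F.obj G.obj _ _).trans (mulGerm_germ ξ F.obj G.obj V v m n))).trans ?_
  exact (Φ).toPresheafFiber_naturality_apply (toSheafify X.smallEtaleTopology (EtTens.tensorObj F.obj G.obj)) V v (m ⊗ₜ[ℤ] n)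

theorem stalkTensor_bijective : Function.Bijective (stalkTensor ξ F G) := by
  have h : IsIso ((fib ξ).map (toSheafify X.smallEtaleTopology (EtTens.tensorObj F.obj G.obj))) :=
    (Φ).W_isInvertedBy_presheafFiber _ (X.smallEtaleTopology.W_toSheafify _)
  exact ((ConcreteCategory.isIso_iff_bijective (C := AddCommGrpCat.{u + 1}) ((fib ξ).map (toSheafify X.smallEtaleTopology (EtTens.tensorObj F.obj G.obj)))).1 h).comp (preFiberTensor_bijective ξ F.obj G.obj)

end Groth.Agent.EtTensLib
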